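import Mathlib
import Cfsg.Prelude.Def_DegreeGraph
import Cfsg.Agent.Lib.DetHom
import Cfsg.Agent.Lib.Codegree
import Cfsg.Agent.Lib.Clifford.Restriction
import Cfsg.Agent.Lib.Chars.PResidualDegree
import Cfsg.Agent.Lib.Chars.Broline
import Cfsg.Agent.S4776

/-!
Relative degrees prime to the index of the derived subgroup: any two have a common neighbour when
the relative degree graph is disconnected.
-/

set_option autoImplicit false
set_option linter.unusedSectionVars false

namespace Cfsg.Agent.Lib.RelDegree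

open Cfsg Cfsg.Agent.Lib
open Cfsg.Agent.S4776 (cj stab mem_stab over_facts not_coprime_of_product)

attribute [-instance] MonoidHom.instPow MonoidHom.mul instOneMonoidHom MonoidHom.instCommMonoid
  MonoidHom.instInv MonoidHom.instDiv

universe u

variable {G : Type u} [Group G] [Finite G] {N : Subgroup G} [N.Normal]

/-- Some irreducible character lies over any given one. -/
theorem exists_over (θ : IrrCharacter N) [Fintype N] :
    ∃ χ : IrrCharacter G, S4776.Over χ θ := by
  classical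
  cases nonempty_fintype G
  obtain ⟨χ, hχ⟩ : ∃ χ : IrrCharacter G,
      classInner (indFun N (θ : N → ℂ)) (χ : G → ℂ) ≠ 0 := by
    by_contra! h0
    have := congrFun (Chars.isCharacter_eq_sum_classInner
      (Chars.isCharacter_indFun N (Chars.irr_isCharacter θ))) 1
    simp [Chars.indFun_one_eq, h0, Chars.irr_apply_one_ne_zero,
      Subgroup.index_ne_zero_of_finite] at this
  refine ⟨χ, fun h0 => hχ ?_⟩
  rw [Chars.classInner_indFun_left N _ _ (Chars.irr_isClassFunction χ), ← Chars.conj_classInner]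
  exact (congrArg _ h0).trans (map_zero _)

theorem linear_of_const [Fintype N] {χ : IrrCharacter G} {θ : IrrCharacter N}
    (h : S4776.Over χ θ) (hall : ∀ x : N, (χ : G → ℂ) x = (χ : G → ℂ) 1) :
    θ = Chars.trivialIrr N := by
  by_contra hne
  refine h ?_
  rw [show Clifford.resFun N (χ : G → ℂ) = (χ : G → ℂ) 1 • (Chars.trivialIrr N : N → ℂ) from
    funext fun x => by simp [Clifford.resFun_apply, hall x],
    Chars.classInner_smul_left, Chars.classInner_irr_of_ne (Ne.symm hne), mul_zero]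

/-- An element in the kernel of `χ` is in the kernel of what lies below `χ`. -/
theorem apply_eq_of_over [Fintype N] {χ : IrrCharacter G} {θ : IrrCharacter N}
    (h : S4776.Over χ θ) {x : N} (hx : (χ : G → ℂ) x = (χ : G → ℂ) 1) :
    (θ : N → ℂ) x = (θ : N → ℂ) 1 := by
  classical
  cases nonempty_fintype G
  obtain ⟨b, -, hb⟩ := Chars.isIrrCharacter_exists_degree_pos θ.2
  obtain ⟨e, he⟩ := Chars.isCharacter_classInner_nat
    (Chars.isCharacter_restrict N (Chars.irr_isCharacter χ)) (Chars.irr_isCharacter θ)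
  have he' : classInner (Clifford.resFun N (χ : G → ℂ)) (θ : N → ℂ) = (e : ℂ) := he
  have he0 : (e : ℂ) ≠ 0 := he' ▸ h
  have hsum := Clifford.sum_resFun_eq_orbit χ.2 θ.2 h
  rw [he'] at hsum
  have e1 := congrFun hsum x
  have e2 := congrFun hsum 1
  simp only [Clifford.resFun_apply, OneMemClass.coe_one, Pi.smul_apply, Finset.sum_apply,
    smul_eq_mul] at e1 e2
  have e3 : ∑ φ ∈ Clifford.orbitFun (G := G) (θ : N → ℂ), φ x =
      ∑ φ ∈ Clifford.orbitFun (G := G) (θ : N → ℂ), φ 1 :=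
    mul_left_cancel₀ he0 (e1.symm.trans (hx.trans e2))
  have hfact : ∀ φ ∈ Clifford.orbitFun (G := G) (θ : N → ℂ), φ 1 = (b : ℂ) ∧
      ‖φ x‖ ≤ (b : ℝ) := by
    intro φ hφ
    obtain ⟨g, rfl⟩ := Clifford.mem_orbitFun.mp hφ
    have h1 := (Clifford.conjFun_apply_one g (θ : N → ℂ)).trans hb
    refine ⟨h1, (Chars.norm_char_le_degree
      (Clifford.isCharacter_conjFun g (Chars.irr_isCharacter θ)) x).trans (le_of_eq ?_)⟩
    rw [h1]
    simp [Cfsg.charDegree]
  have hle : ∀ φ ∈ Clifford.orbitFun (G := G) (θ : N → ℂ), (φ x).re ≤ (φ 1).re := fun φ hφ => by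
    rw [(hfact φ hφ).1]
    exact (Complex.re_le_norm _).trans ((hfact φ hφ).2.trans (le_of_eq (by simp)))
  have e4 := congrArg Complex.re e3
  rw [Complex.re_sum, Complex.re_sum] at e4
  have hmem : (θ : N → ℂ) ∈ Clifford.orbitFun (G := G) (θ : N → ℂ) :=
    Clifford.mem_orbitFun.mpr ⟨1, Clifford.conjFun_one _⟩
  have h5 := (Finset.sum_eq_sum_iff_of_le hle).mp e4 _ hmem
  rw [hb] at h5 ⊢
  have h6 := (hfact _ hmem).2
  have h7 : ((θ : N → ℂ) x).re = ‖(θ : N → ℂ) x‖ :=
    le_antisymm (Complex.re_le_norm _) (by rw [h5]; simpa using h6)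
  obtain ⟨-, h8⟩ := Complex.nonneg_iff.mp (Complex.re_eq_norm.mp h7)
  exact Complex.ext h5 (by simpa using h8.symm)

/-- An irreducible character trivial on the derived subgroup is linear. -/
theorem degree_one_of_commutator_ker {H : Type*} [Group H] [Finite H] (θ : IrrCharacter H)
    (hker : ∀ x ∈ commutator H, (θ : H → ℂ) x = (θ : H → ℂ) 1) : (θ : H → ℂ) 1 = 1 := by
  obtain ⟨n, ρ, hρ, hθ⟩ := θ.2
  let f : Representation ℂ (Abelianization H) (Fin n → ℂ) :=
    QuotientGroup.lift (commutator H) ρ fun x hx => MonoidHom.mem_ker.mpr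
      ((Chars.rep_eq_one_iff ρ x).mpr (by rw [hθ]; exact hker x hx))
  have hcomp : f.comp (Abelianization.of : H →* Abelianization H) = ρ :=
    MonoidHom.ext fun _ => rfl
  have : Representation.IsIrreducible (f.comp (Abelianization.of : H →* Abelianization H)) :=
    hcomp.symm ▸ hρ
  have := Clifford.isIrreducible_of_comp f (Abelianization.of : H →* Abelianization H)
  rw [← hθ, Representation.char_one, Representation.IsIrreducible.finrank_eq_one_of_isMulCommutative f,
    Nat.cast_one]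

theorem mem_commutator {x : N} (hx : x ∈ commutator N) : (x : G) ∈ ⁅N, N⁆ := by
  rw [← N.map_subtype_commutator]
  exact Subgroup.mem_map_of_mem _ hx

theorem index_commutator : (commutator N).index = ⁅N, N⁆.relIndex N := by
  rw [Subgroup.relIndex, Subgroup.subgroupOf, ← N.map_subtype_commutator,
    Subgroup.comap_map_eq_self_of_injective N.subtype_injective]

/-- A degree of an irreducible character of `G` over a nonlinear one of `N` is relative to `N'`. -/
theorem mem_rel_commutator [Fintype N] {χ : IrrCharacter G} {θ : IrrCharacter N}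
    (h : S4776.Over χ θ) {a b : ℕ} (ha : (χ : G → ℂ) 1 = a) (hb : (θ : N → ℂ) 1 = b)
    (hb1 : b ≠ 1) : a ∈ relCharDegrees (⁅N, N⁆ : Subgroup G) := by
  classical
  refine ⟨χ, ?_, Codegree.charDegree_eq ha⟩
  by_contra! hall
  have hker : ∀ x : N, x ∈ commutator N → (θ : N → ℂ) x = (θ : N → ℂ) 1 := fun x hx =>
    apply_eq_of_over h (hall x (mem_commutator hx))
  have hlin := degree_one_of_commutator_ker θ hker
  rw [hb] at hlin
  exact hb1 (by exact_mod_cast hlin)

/-- The relative degrees prime to `[N : N']` and the others. -/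
theorem dichotomy (hN : ⁅N, N⁆ < N) (hNG : N ≤ commutator G)
    {x y : relCharDegrees N}
    (h : ¬ (commonDivisorGraph.induce (relCharDegrees N)).Reachable x y) :
    (Nat.Coprime (x : ℕ) (⁅N, N⁆.relIndex N) ∧
        ∀ r : ℕ, r.Prime → r ∣ ⁅N, N⁆.relIndex N → r ∣ (y : ℕ)) ∨
      (Nat.Coprime (y : ℕ) (⁅N, N⁆.relIndex N) ∧
        ∀ r : ℕ, r.Prime → r ∣ ⁅N, N⁆.relIndex N → r ∣ (x : ℕ)) :=
  (S4776.result N hN hNG).2 x y x.2 y.2 h

theorem pos_of_mem {a : ℕ} (ha : a ∈ relCharDegrees N) : 0 < a := by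
  obtain ⟨χ, -, hχ⟩ := ha
  exact hχ ▸ (Chars.charDegree_spec χ).1

theorem one_lt_gcd {a b c : ℕ} (hb : 0 < b) (hc : c ≠ 1) (hca : c ∣ a) (hcb : c ∣ b) :
    1 < Nat.gcd a b := by
  have h0 : 0 < Nat.gcd a b := Nat.gcd_pos_of_pos_right _ hb
  rcases Nat.lt_or_eq_of_le (Nat.one_le_iff_ne_zero.mpr h0.ne') with h | h
  · exact h
  · exact absurd (Nat.eq_one_of_dvd_one (h ▸ Nat.dvd_gcd hca hcb)) hc

theorem reachable_of_dvd {x y : relCharDegrees N} {c : ℕ} (hc : c ≠ 1) (hx : c ∣ (x : ℕ))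
    (hy : c ∣ (y : ℕ)) : (commonDivisorGraph.induce (relCharDegrees N)).Reachable x y := by
  by_cases hxy : x = y
  · rw [hxy]
  exact SimpleGraph.Adj.reachable
    ⟨fun h => hxy (Subtype.ext h), one_lt_gcd (pos_of_mem y.2) hc hx hy⟩

/-- In the disconnected case no path joins a degree prime to `[N : N']` to another one. -/
theorem not_reachable (hN : ⁅N, N⁆ < N) (hNG : N ≤ commutator G)
    (hdisc : ¬ (commonDivisorGraph.induce (relCharDegrees N)).Preconnected)
    {x w : relCharDegrees N} (hx : Nat.Coprime (x : ℕ) (⁅N, N⁆.relIndex N))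
    {r : ℕ} (hr : r.Prime) (hrm : r ∣ ⁅N, N⁆.relIndex N) (hrw : r ∣ (w : ℕ)) :
    ¬ (commonDivisorGraph.induce (relCharDegrees N)).Reachable x w := by
  intro hxw
  obtain ⟨a, b, hab⟩ : ∃ a b, ¬ (commonDivisorGraph.induce (relCharDegrees N)).Reachable a b := by
    by_contra! hc
    exact hdisc hc
  have hxfull : ¬ ∀ s : ℕ, s.Prime → s ∣ ⁅N, N⁆.relIndex N → s ∣ (x : ℕ) := fun h =>
    hr.ne_one (Nat.eq_one_of_dvd_coprimes hx (h r hr hrm) hrm)
  obtain ⟨c, hc⟩ : ∃ c, ¬ (commonDivisorGraph.induce (relCharDegrees N)).Reachable x c := by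
    by_contra! hc
    exact hab ((hc a).symm.trans (hc b))
  rcases dichotomy hN hNG hc with ⟨-, hcf⟩ | ⟨-, hxf⟩
  · exact hc (hxw.trans (reachable_of_dvd hr.ne_one hrw (hcf r hr hrm)))
  · exact hxfull hxf

/-- **Two degrees prime to `[N : N']` have a common neighbour.** -/
theorem near : ∀ (n : ℕ) (N : Subgroup G) [N.Normal] [Group.IsSolvable N], Nat.card N = n →
    N ≤ commutator G → ¬ (commonDivisorGraph.induce (relCharDegrees N)).Preconnected →
    ∀ x y : relCharDegrees N, Nat.Coprime (x : ℕ) (⁅N, N⁆.relIndex N) →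
      Nat.Coprime (y : ℕ) (⁅N, N⁆.relIndex N) →
      ∃ d ∈ relCharDegrees N, 1 < Nat.gcd (x : ℕ) d ∧ 1 < Nat.gcd d (y : ℕ) := by
  intro n
  induction n using Nat.strong_induction_on with
  | _ n ih =>
  intro N hNn hNs hcard hNG hdisc x y hx hy
  classical
  cases nonempty_fintype G
  have : Fintype N := Fintype.ofFinite _
  have hlt : ⁅N, N⁆ < N := by
    have hne : Nontrivial N := by
      rcases subsingleton_or_nontrivial N with h | h
      · obtain ⟨χ, ⟨z, hz, hzne⟩, -⟩ := x.2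
        exact absurd (congrArg (fun w : N => (χ : G → ℂ) w)
          (Subsingleton.elim (⟨z, hz⟩ : N) 1)) hzne
      · exact h
    have h := Group.IsSolvable.commutator_lt_top_of_nontrivial N
    rw [← N.map_subtype_commutator]
    calc (commutator N).map N.subtype < (⊤ : Subgroup N).map N.subtype :=
          (Subgroup.map_lt_map_iff_of_injective N.subtype_injective).mpr h
      _ = N := by rw [← MonoidHom.range_eq_map, N.range_subtype]
  set m := ⁅N, N⁆.relIndex N with hm
  have hm1 : m ≠ 1 := fun h => hlt.not_ge (Subgroup.relIndex_eq_one.mp (hm ▸ h))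
  obtain ⟨r0, hr0, hr0m⟩ := Nat.exists_prime_and_dvd hm1
  have hLin : Nat.card (N →* ℂˣ) = m := by
    rw [Chars.card_monoidHom_units, hm, index_commutator]
  have : Finite (N →* ℂˣ) := Finite.of_injective _ Chars.linIrr_injective
  have hpowm : ∀ l : N →* ℂˣ, l ^ m = 1 := fun l => hLin ▸ pow_card_eq_one'
  -- a degree above a character of `N`
  have hdeg : ∀ θ : IrrCharacter N, θ ≠ Chars.trivialIrr N →
      ∃ (d : ℕ) (χ : IrrCharacter G), d ∈ relCharDegrees N ∧ (χ : G → ℂ) 1 = (d : ℂ) ∧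
        S4776.Over χ θ := by
    intro θ hθ
    obtain ⟨χ, hχ⟩ := exists_over θ
    refine ⟨charDegree (χ : G → ℂ), χ, ⟨χ, ?_, rfl⟩, (Chars.charDegree_spec χ).2, hχ⟩
    by_contra! hall
    exact hθ (linear_of_const hχ fun z => hall z z.2)
  -- what a degree prime to `m` lies above
  have hbelow : ∀ z : relCharDegrees N, Nat.Coprime (z : ℕ) m →
      (∃ l : N →* ℂˣ, (stab l : Subgroup G).index ∣ (z : ℕ) ∧
        (stab l : Subgroup G).index ≠ 1) ∨
      (∃ (θ : IrrCharacter N) (b : ℕ), (θ : N → ℂ) 1 = b ∧ b ∣ (z : ℕ) ∧ b ≠ 1 ∧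
        (z : ℕ) ∈ relCharDegrees (⁅N, N⁆ : Subgroup G)) := by
    intro z hz
    obtain ⟨χ, ⟨v, hv, hvne⟩, hχ⟩ := z.2
    have hχ1 : (χ : G → ℂ) 1 = ((z : ℕ) : ℂ) := hχ ▸ (Chars.charDegree_spec χ).2
    obtain ⟨θ, hθ, hov⟩ : ∃ θ, θ ≠ Chars.trivialIrr N ∧ S4776.Over χ θ := by
      by_contra! hcon
      refine hvne ?_
      have hdec := Chars.isCharacter_eq_sum_classInner
        (Chars.isCharacter_restrict N (Chars.irr_isCharacter χ))
      rw [Finset.sum_eq_single (Chars.trivialIrr N) (fun θ _ hθ => by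
        rw [show classInner (fun x : N => (χ : G → ℂ) x) (θ : N → ℂ) = 0 from
          not_not.mp (hcon θ hθ), zero_smul]) (by simp)] at hdec
      have h1 := congrFun hdec ⟨v, hv⟩
      have h2 := congrFun hdec 1
      simp only [Pi.smul_apply, Chars.trivialIrr_apply, OneMemClass.coe_one] at h1 h2
      exact h1.trans h2.symm
    obtain ⟨b, -, hb⟩ := Chars.isIrrCharacter_exists_degree_pos θ.2
    obtain ⟨hbz, htz, htop⟩ := over_facts hNG hov hχ1 hb 1
    rw [pow_one] at htz htop
    by_cases hb1 : b = 1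
    · subst hb1
      rw [Nat.cast_one] at hb
      obtain ⟨μ, hμ⟩ := Chars.exists_hom_of_degree_one (Chars.irr_isCharacter θ) hb
      have hdet : DetHom.det (θ : N → ℂ) = μ := by rw [hμ]; exact DetHom.det_hom μ
      rw [hdet] at htz htop
      refine Or.inl ⟨μ, htz, fun h1 => hθ ?_⟩
      have hord := htop (Subgroup.index_eq_one.mp h1)
      have hμ1 : μ = 1 := orderOf_eq_one_iff.mp
        (Nat.eq_one_of_dvd_coprimes hz hord (orderOf_dvd_of_pow_eq_one (hpowm μ)))
      exact Subtype.ext (by rw [hμ, hμ1]; funext n; simp)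
    · exact Or.inr ⟨θ, b, hb, hbz, hb1, mem_rel_commutator hov hχ1 hb hb1⟩
  -- a nonlinear constituent and a linear character
  have hmix : ∀ (z w : relCharDegrees N) (θ : IrrCharacter N) (b : ℕ) (l : N →* ℂˣ),
      Nat.Coprime (z : ℕ) m → (θ : N → ℂ) 1 = b → b ∣ (z : ℕ) → b ≠ 1 →
      (stab l : Subgroup G).index ∣ (w : ℕ) → (stab l : Subgroup G).index ≠ 1 →
      ∃ d ∈ relCharDegrees N, 1 < Nat.gcd (z : ℕ) d ∧ 1 < Nat.gcd d (w : ℕ) := by
    intro z w θ b l hz hb hbz hb1 hl hl1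
    obtain ⟨k, hk⟩ := exists_pow_eq_self_of_coprime
      (x := l * (DetHom.det (θ : N → ℂ))⁻¹) (n := b)
      ((hz.coprime_dvd_left hbz).coprime_dvd_right (orderOf_dvd_of_pow_eq_one (hpowm _)))
    set μ := (l * (DetHom.det (θ : N → ℂ))⁻¹) ^ k with hμdef
    have hμ : μ ^ b = l * (DetHom.det (θ : N → ℂ))⁻¹ := by
      rw [hμdef, ← pow_mul, mul_comm, pow_mul, hk]
    let θ' : IrrCharacter N := ⟨_, Chars.isIrrCharacter_hom_mul μ θ.2⟩
    have hb' : (θ' : N → ℂ) 1 = b := by simp [θ', hb]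
    have hdet : DetHom.det (θ' : N → ℂ) = l := by
      show DetHom.det (fun g => (μ g : ℂ) * (θ : N → ℂ) g) = l
      rw [DetHom.det_hom_mul μ (Chars.irr_isCharacter θ) hb, hμ, inv_mul_cancel_right]
    obtain ⟨d, χ, hd, hχ, hov⟩ := hdeg θ' fun h => hb1 (by
      have := hb'.symm.trans (show (θ' : N → ℂ) 1 = 1 by rw [h]; simp)
      exact_mod_cast this)
    obtain ⟨h1, h2, -⟩ := over_facts hNG hov hχ hb' 1
    rw [pow_one, hdet] at h2
    exact ⟨d, hd, one_lt_gcd (pos_of_mem hd) hb1 hbz h1,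
      one_lt_gcd (pos_of_mem w.2) hl1 h2 hl⟩
  rcases hbelow x hx with ⟨l, hlx, hl1⟩ | ⟨θ, b, hb, hbx, hb1, hxK⟩
  · rcases hbelow y hy with ⟨μ, hμy, hμ1⟩ | ⟨θ', b', hb', hby, hb1', hyK⟩
    · set tl := (stab l : Subgroup G).index
      set tm := (stab μ : Subgroup G).index
      by_cases hcop : tl.Coprime tm
      · have hql : m.Coprime tl := (hx.coprime_dvd_left hlx).symm
        have hqm : m.Coprime tm := (hy.coprime_dvd_left hμy).symm
        have h3m := not_coprime_of_product (hpowm μ) hcop hμ1 hql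
        have h3l := not_coprime_of_product (hpowm l) hcop.symm hl1 hqm
        rw [mul_comm μ l] at h3l
        have hlm1 : l * μ ≠ 1 := by
          intro h
          refine h3l ?_
          rw [h, show (stab (1 : N →* ℂˣ) : Subgroup G).index = 1 from
            Subgroup.index_eq_one.mpr (eq_top_iff.mpr fun g _ => mem_stab.mpr (by
              ext; simp [cj]))]
          exact Nat.coprime_one_left _
        obtain ⟨d, χ, hd, hχ, hov⟩ := hdeg (Chars.linIrr (l * μ)) fun h => hlm1 (by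
          refine MonoidHom.ext fun n => Units.ext ?_
          simpa [Chars.linIrr] using congrFun (congrArg Subtype.val h) n)
        obtain ⟨-, h2, -⟩ := over_facts hNG hov hχ (b := 1) (by simp [Chars.linIrr]) 1
        rw [pow_one, show DetHom.det ((Chars.linIrr (l * μ) : IrrCharacter N) : N → ℂ) = l * μ
          from DetHom.det_hom (l * μ)] at h2
        exact ⟨d, hd, one_lt_gcd (pos_of_mem hd) h3l ((Nat.gcd_dvd_right _ _).trans hlx)
            ((Nat.gcd_dvd_left _ _).trans h2),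
          one_lt_gcd (pos_of_mem y.2) h3m ((Nat.gcd_dvd_left _ _).trans h2)
            ((Nat.gcd_dvd_right _ _).trans hμy)⟩
      · exact ⟨x, x.2, one_lt_gcd (pos_of_mem x.2) hl1 hlx hlx,
          one_lt_gcd (pos_of_mem y.2) hcop ((Nat.gcd_dvd_left _ _).trans hlx)
            ((Nat.gcd_dvd_right _ _).trans hμy)⟩
    · obtain ⟨d, hd, h1, h2⟩ := hmix y x θ' b' l hy hb' hby hb1' hlx hl1
      exact ⟨d, hd, by rwa [Nat.gcd_comm], by rwa [Nat.gcd_comm]⟩
  · rcases hbelow y hy with ⟨μ, hμy, hμ1⟩ | ⟨θ', b', -, hby, hb1', hyK⟩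
    · exact hmix x y θ b μ hx hb hbx hb1 hμy hμ1
    -- both degrees are relative to the derived subgroup
    have hKs : Group.IsSolvable (⁅N, N⁆ : Subgroup G) :=
      solvable_of_solvable_injective (Subgroup.inclusion_injective hlt.le)
    have hsub : relCharDegrees (⁅N, N⁆ : Subgroup G) ⊆ relCharDegrees N :=
      fun _ ⟨χ, ⟨v, hv, hne⟩, hχ⟩ => ⟨χ, ⟨v, hlt.le hv, hne⟩, hχ⟩
    have hKne : (⁅N, N⁆ : Subgroup G) ≠ ⊥ := fun h => by
      obtain ⟨χ, ⟨v, hv, hne⟩, -⟩ := hxK
      rw [h, Subgroup.mem_bot] at hv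
      exact hne (hv ▸ rfl)
    -- a degree over a linear character of the derived subgroup
    obtain ⟨w, hwK, hwr⟩ : ∃ w ∈ relCharDegrees (⁅N, N⁆ : Subgroup G), ¬ Nat.Coprime w m := by
      have hcne : commutator N ≠ ⊥ := fun h => hKne (by
        rw [← N.map_subtype_commutator, h, Subgroup.map_bot])
      have : Nontrivial (commutator N) := (Subgroup.nontrivial_iff_ne_bot _).mpr hcne
      have : Group.IsSolvable (commutator N) :=
        solvable_of_solvable_injective (commutator N).subtype_injective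
      have := Fintype.ofFinite (commutator N)
      obtain ⟨lam, hlam⟩ : ∃ lam : commutator N →* ℂˣ, lam ≠ 1 := by
        by_contra! hall
        have hsub : Subsingleton (commutator N →* ℂˣ) := ⟨fun a c => (hall a).trans (hall c).symm⟩
        have h1 : Nat.card (commutator N →* ℂˣ) = 1 :=
          Nat.card_eq_one_iff_unique.mpr ⟨hsub, ⟨1⟩⟩
        rw [Chars.card_monoidHom_units, Subgroup.index_eq_one] at h1
        exact (Group.IsSolvable.commutator_lt_top_of_nontrivial (commutator N)).ne h1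
      obtain ⟨θ₁, hθ₁⟩ := exists_over (G := N) (Chars.linIrr lam)
      have hne1 : (Chars.linIrr lam : IrrCharacter (commutator N)) ≠ Chars.trivialIrr _ :=
        fun h => hlam (MonoidHom.ext fun n => Units.ext (by
          simpa [Chars.linIrr] using congrFun (congrArg Subtype.val h) n))
      obtain ⟨z, hz⟩ : ∃ z : commutator N, (θ₁ : N → ℂ) z ≠ (θ₁ : N → ℂ) 1 := by
        by_contra! hall
        exact hne1 (linear_of_const hθ₁ hall)
      obtain ⟨χ, hχ⟩ := exists_over θ₁
      obtain ⟨b₁, hb₁0, hb₁⟩ := Chars.isIrrCharacter_exists_degree_pos θ₁.2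
      refine ⟨charDegree (χ : G → ℂ), ⟨χ, ⟨((z : N) : G), mem_commutator z.2, fun h =>
        hz (apply_eq_of_over hχ h)⟩, rfl⟩, fun hco => ?_⟩
      have hbw := (over_facts hNG hχ (Chars.charDegree_spec χ).2 hb₁ 0).1
      have hco' : Nat.Coprime (commutator N).index (charDegree (θ₁ : N → ℂ)) := by
        rw [index_commutator, Codegree.charDegree_eq hb₁]
        exact (hco.coprime_dvd_left hbw).symm
      have hirr := Chars.restrict_irr_of_coprime (commutator N) θ₁ hco'
      have heq : (⟨_, hirr⟩ : IrrCharacter (commutator N)) = Chars.linIrr lam := by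
        by_contra hne
        exact hθ₁ (Chars.classInner_irr_of_ne hne)
      have h1 : (θ₁ : N → ℂ) 1 = 1 := by
        have := congrFun (congrArg Subtype.val heq) 1
        simpa [Clifford.resFun_apply, Chars.linIrr] using this
      obtain ⟨μ, hμ⟩ := Chars.exists_hom_of_degree_one (Chars.irr_isCharacter θ₁) h1
      refine hz ?_
      have hμz : μ (z : N) = 1 :=
        MonoidHom.mem_ker.mp (Abelianization.commutator_subset_ker μ z.2)
      rw [hμ]
      simp [hμz]
    obtain ⟨r, hr, hrw, hrm⟩ := Nat.Prime.not_coprime_iff_dvd.mp hwr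
    set W : relCharDegrees (⁅N, N⁆ : Subgroup G) := ⟨w, hwK⟩
    set X : relCharDegrees (⁅N, N⁆ : Subgroup G) := ⟨x, hxK⟩
    set Y : relCharDegrees (⁅N, N⁆ : Subgroup G) := ⟨y, hyK⟩
    let ι : commonDivisorGraph.induce (relCharDegrees (⁅N, N⁆ : Subgroup G)) →g
        commonDivisorGraph.induce (relCharDegrees N) :=
      { toFun := fun d => ⟨d, hsub d.2⟩
        map_rel' := fun h => h }
    have hXW : ¬ (commonDivisorGraph.induce
        (relCharDegrees (⁅N, N⁆ : Subgroup G))).Reachable X W := fun h =>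
      not_reachable hlt hNG hdisc (x := x) (w := ⟨w, hsub hwK⟩) hx hr hrm hrw (h.map ι)
    have hYW : ¬ (commonDivisorGraph.induce
        (relCharDegrees (⁅N, N⁆ : Subgroup G))).Reachable Y W := fun h =>
      not_reachable hlt hNG hdisc (x := y) (w := ⟨w, hsub hwK⟩) hy hr hrm hrw (h.map ι)
    have hKG : (⁅N, N⁆ : Subgroup G) ≤ commutator G := hlt.le.trans hNG
    have hKlt : ⁅(⁅N, N⁆ : Subgroup G), (⁅N, N⁆ : Subgroup G)⁆ < ⁅N, N⁆ := by
      have : Nontrivial (⁅N, N⁆ : Subgroup G) := (Subgroup.nontrivial_iff_ne_bot _).mpr hKne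
      have h := Group.IsSolvable.commutator_lt_top_of_nontrivial (⁅N, N⁆ : Subgroup G)
      rw [← Subgroup.map_subtype_commutator]
      calc (commutator (⁅N, N⁆ : Subgroup G)).map (Subgroup.subtype _)
            < (⊤ : Subgroup (⁅N, N⁆ : Subgroup G)).map (Subgroup.subtype _) :=
            (Subgroup.map_lt_map_iff_of_injective (Subgroup.subtype_injective _)).mpr h
        _ = ⁅N, N⁆ := by rw [← MonoidHom.range_eq_map, Subgroup.range_subtype]
    set mK := ⁅(⁅N, N⁆ : Subgroup G), (⁅N, N⁆ : Subgroup G)⁆.relIndex ⁅N, N⁆ with hmK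
    obtain ⟨s, hs, hsm⟩ := Nat.exists_prime_and_dvd
      (show mK ≠ 1 from fun h => hKlt.not_ge (Subgroup.relIndex_eq_one.mp (hmK ▸ h)))
    rcases dichotomy hKlt hKG hXW with ⟨hXc, hWf⟩ | ⟨hWc, hXf⟩
    · rcases dichotomy hKlt hKG hYW with ⟨hYc, -⟩ | ⟨hWc, -⟩
      · obtain ⟨d, hd, h1, h2⟩ := ih _ (hcard ▸ (lt_of_le_of_ne (Subgroup.card_le_of_le hlt.le) fun e => hlt.ne (Subgroup.eq_of_le_of_card_ge hlt.le e.ge)))
          (⁅N, N⁆ : Subgroup G) rfl hKG (fun h => hXW (h X W)) X Y hXc hYc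
        exact ⟨d, hsub hd, h1, h2⟩
      · exact absurd (Nat.eq_one_of_dvd_coprimes hWc (hWf s hs hsm) hsm) hs.ne_one
    · rcases dichotomy hKlt hKG hYW with ⟨-, hWf⟩ | ⟨-, hYf⟩
      · exact absurd (Nat.eq_one_of_dvd_coprimes hWc (hWf s hs hsm) hsm) hs.ne_one
      · exact ⟨x, x.2, one_lt_gcd (pos_of_mem x.2) hs.ne_one (hXf s hs hsm) (hXf s hs hsm),
          one_lt_gcd (pos_of_mem y.2) hs.ne_one (hXf s hs hsm) (hYf s hs hsm)⟩

end Cfsg.Agent.Lib.RelDegree
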